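import Cfsg.Agent.Lib.CIT.Main
import Cfsg.Agent.Lib.FGS.EvenCyc
import Cfsg.Agent.Lib.Sz.Local
import Cfsg.Agent.S3188

/-!
# Simple CIT-groups, simple groups with abelian Sylow `2`-subgroups and solvable involution centralizers
-/

set_option autoImplicit false

namespace Cfsg.Lib.Spec

open Subgroup Cfsg.Lib.BG Cfsg.Lib.Inv Cfsg.Lib.FGS Cfsg.Lib.CIT
open scoped MatrixGroups

variable {G : Type*} [Group G] [Finite G] [IsSimpleGroup G]

omit [Finite G] in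
theorem simple_not_sol (hG : ¬ IsMulCommutative G) : ¬ Group.IsSolvable G :=
  fun e => hG ⟨⟨IsSimpleGroup.comm_iff_isSolvable.2 e⟩⟩

omit [Finite G] in
theorem simple_hss (hG : ¬ IsMulCommutative G) (N : Subgroup G) (hN : N.Normal) (hs : Group.IsSolvable N) : N = ⊥ :=
  hN.eq_bot_or_eq_top.resolve_right fun e => simple_not_sol hG (by
    subst e; exact Group.isSolvable_of_surjective (f := (⊤ : Subgroup G).subtype) fun g => ⟨⟨g, trivial⟩, rfl⟩)

theorem simple_exists_inv (hG : ¬ IsMulCommutative G) : ∃ t : G, orderOf t = 2 :=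
  exists_prime_orderOf_dvd_card' 2 (by_contra fun e => simple_not_sol hG (Coprime.isSolvable_of_not_two_dvd e))

theorem simple_rk2 (hG : ¬ IsMulCommutative G) : Rk2 G := by
  obtain ⟨t, ht⟩ := simple_exists_inv hG
  obtain ⟨g, h1, h2⟩ := exists_conj_comm (simple_hss hG) ht
  have k := orderOf_eq_two_iff.1 ht
  have k' := orderOf_eq_two_iff.1 (ordc ht g)
  exact ⟨_, _, k'.1, k.1, h2, k'.2, k.2, mem_cent1.1 h1⟩

/-- Suzuki's classification of the simple CIT-groups. -/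
theorem cit_simple (hG : ¬ IsMulCommutative G) (h : IsCIT G) :
    (∃ (F : Type) (_ : Field F) (_ : Fintype F), 3 < Fintype.card F ∧ Nonempty (G ≃* PSL(2, F))) ∨ Lie.IsoSuzuki G ∨
      ∃ (F : Type) (_ : Field F) (_ : Fintype F), Fintype.card F = 4 ∧ Nonempty (G ≃* PSL(3, F)) := by
  rcases IsCIT.zas_or_exc.{_, 0} h (simple_hss hG _ inferInstance (pgroup_sol (Core.pCore_isPGroup 2 G))) (simple_rk2 hG) with
    ⟨-, ⟨F, _, _, n, hn, hF, e⟩ | h⟩ | ⟨-, ⟨F, _, _, -, h⟩ | ⟨N, hN, h2, -⟩ | h⟩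
  · exact .inl ⟨F, _, _, hF ▸ lt_of_lt_of_le (by norm_num) (Nat.pow_le_pow_right two_pos hn), e⟩
  · exact .inr (.inl h)
  · exact .inl ⟨F, _, _, h⟩
  · rcases hN.eq_bot_or_eq_top with rfl | rfl
    · have := Fact.mk Nat.prime_two
      exact (hG (isCyclic_of_prime_card (index_bot (G := G) ▸ h2)).isMulCommutative).elim
    · simp at h2
  · exact .inr (.inr h)

theorem ab_simple (hG : ¬ IsMulCommutative G) (S : Sylow 2 G) (hS : IsMulCommutative (S : Subgroup G))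
    (hC : ∀ t : G, orderOf t = 2 → Group.IsSolvable 𝐂[t]) :
    ∃ (F : Type) (_ : Field F) (_ : Fintype F), (((Fintype.card F % 8 = 3 ∨ Fintype.card F % 8 = 5) ∧ 5 ≤ Fintype.card F) ∨
      (∃ n : ℕ, 2 ≤ n ∧ Fintype.card F = 2 ^ n)) ∧ Nonempty (G ≃* PSL(2, F)) := by
  obtain ⟨F, _, _, hF, N, hN, ⟨e⟩, h1⟩ := (Agent.S3188.result S hS hC).resolve_left (simple_not_sol hG)
  have h2 := simple_hss hG (oddCore G) inferInstance
    (Coprime.isSolvable_of_not_two_dvd (Core.odd_card_oddCore G).not_two_dvd_nat)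
  let f := (QuotientGroup.quotientMulEquivOfEq h2).trans QuotientGroup.quotientBot
  have := f.isSimpleGroup
  rcases hN.eq_bot_or_eq_top with rfl | rfl
  · exact (top_ne_bot ((cent_bot).symm.trans h1)).elim
  · exact ⟨F, _, _, hF, ⟨f.symm.trans (topEquiv.symm.trans e)⟩⟩

omit [Finite G] [IsSimpleGroup G] in
theorem sz_orders {F : Type*} [Field F] [Fintype F] {m : ℕ} (hm : 1 ≤ m) (hF : Fintype.card F = 2 ^ (2 * m + 1))
    (e : G ≃* Lie.Sz F (2 ^ (m + 1))) : 4 ∈ sp G ∧ 2 ^ (2 * m + 1) - 1 ∈ sp G ∧ 2 ^ (2 * m + 1) + 2 ^ (m + 1) + 1 ∈ sp G ∧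
      2 ^ (2 * m + 1) - 2 ^ (m + 1) + 1 ∈ sp G := by
  have hq : Nat.card F = 2 ^ (2 * m + 1) := by rw [Nat.card_eq_fintype_card, hF]
  let M := (Sz.lieModel hF).congr e
  have : Finite G := Nat.finite_of_card_ne_zero (by
    rw [M.card_G, hq]
    have : 1 < 2 ^ (2 * m + 1) := Nat.one_lt_two_pow (by omega)
    have := Nat.sub_pos_of_lt this
    positivity)
  obtain ⟨g, y, hg, hy, h1, h2, -⟩ := M.exists_tori hm hq
  obtain ⟨μ, hμ⟩ := IsCyclic.exists_ofOrder_eq_natCard (α := Fˣ)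
  have := hg.isCyclic
  have := hy.isCyclic
  exact ⟨⟨_, M.orderOf_u_of_ne one_ne_zero 0⟩, ⟨M.h μ, by rw [M.orderOf_h, hμ, Nat.card_units, hq]⟩,
    sp_subgroup _ (mem_sp_of_isCyclic.2 h1.symm.dvd), sp_subgroup _ (mem_sp_of_isCyclic.2 h2.symm.dvd)⟩

end Cfsg.Lib.Spec
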